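import Cfsg.Agent.Gen2.SecRank

/-! The Sylow 2-subgroup of `S₈` (helper20) as codes `< 128` of automorphisms of the binary tree of depth 3. -/

set_option autoImplicit false
set_option synthInstance.maxSize 4096

namespace Cfsg.Agent.W128
open Subgroup Cfsg.Agent.BG

def W := Fin 128
instance instW128n1 : DecidableEq W := inferInstanceAs (DecidableEq (Fin 128))
instance instW128n2 : Fintype W := inferInstanceAs (Fintype (Fin 128))
instance instW128n3 (p : W → Prop) [h : DecidablePred p] : Decidable (∀ a, p a) := @Nat.decidableForallFin 128 p h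
instance instW128n4 (p : W → Prop) [h : DecidablePred p] : Decidable (∃ a, p a) := @Nat.decidableExistsFin 128 p h
def k (n : ℕ) : W := Fin.ofNat 128 n
def W.v (a : W) : ℕ := Fin.val a
def tT : ℕ := 6064513421956360845797896448007143716995026208364132405814325398344409428681421319186649987746803379439080424436168165469067768089563827719227250267270135936807226000929899726768355485706093539491486982775857092705506187140365585742391223205233965708829862317321941827137699138216174749135259870610875066201569473479368298681121175845662419985086880411003125606060333054264636584522168384532025888122949406087351145267160231517386521690069017989401728488012381545593309192833069303459243397894232287061702504578956723270314731921596738819044190573179153837390140179840915822101436449030631784140553271672468016221714830545004877586546567961378774232104569782169351537888912300782789114698328023973797541459764052068679992449612054579760098768216625107047679739523775319308321443124421477855230457182781064474774968275428127419097535065904652435727538290276785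637950330458124970346710256184867594428819517316071279939697730440525704948478134966511247451288033243127968070224565620363444987553728449631448835541036511288292965961269113901055524656191399023983232628067097199043243109258149540991983313067814991380141169753051888633384146373251570067916932784097548700762326795493400577016398399588797118317949015075897761459701334664301259889402966628734176391840807064791879215210448332183876472261539211351807625254154624673926845924900416246211417434279934831312986465135179014978768551286577566354371457342402798314417106433504321560632081557279813532489813214230619352616184581102712827635001514347301912391921444706404284650588744663471903114482754370219223153830039701903810173680399044776455724873856191147309976122879817387078496599338539404460782599108252825327321361574996356792843375934564563188704214279823014458560265879113110516636252212000616519153288220658755419044945762861660017563175190505645830771236799848913695507497631870517008419994432021951711069167944374374410132777151664915967810457402237304005197900753642115191088818759434962834271321070514731154510079974799140419505060466237380117799310029693985263210379660641148281724337397526482830940169249805555481976088500783338701253121666714683031342351612330032355548064174525271539840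
def tI : ℕ := 528035543531218852068127632937488724604137796454335534917016756621077989255483955939614297973910167900338529360949879663021423483567611544120854932444858257919298221444344542137981943944005378648481732243630714727487095075094989348851327018982772492527988308537228951680
instance instW128n5 : Mul W := ⟨fun a b => k (b.v ^^^ (tT >>> (7 * (128 * (b.v / 16) + a.v))) % 128)⟩
instance instW128n6 : One W := ⟨k 0⟩
instance instW128n7 : Inv W := ⟨fun a => k (tI >>> (7 * a.v))⟩
def act (a : W) (i : Fin 8) : Fin 8 :=
  Fin.ofNat 8 (i.1 ^^^ (4 * (a.v / 64)) ^^^ (2 * (a.v >>> (4 + i.1 / 4) % 2)) ^^^ (a.v >>> (i.1 / 2) % 2))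
theorem act_mul : ∀ a b : W, ∀ i, act (a * b) i = act a (act b i) := by decide +kernel
theorem act_inj : ∀ a b : W, (∀ i, act a i = act b i) → a = b := by decide +kernel
instance instW128n8 : Group W := Group.ofLeftAxioms (fun a b c => act_inj _ _ fun i => by simp only [act_mul])
  (by decide +kernel) (by decide +kernel)
instance instW128n9 : MulAction W (Fin 8) where
  smul := act
  one_smul := by decide +kernel
  mul_smul := act_mul

theorem cardp (p : W → Prop) [DecidablePred p] : Nat.card {w // p w} = (Finset.univ.filter p).card :=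
  Nat.card_eq_fintype_card.trans (Fintype.card_subtype p)

theorem fac : 128 = 2 ^ (Nat.card (Equiv.Perm (Fin 8))).factorization 2 := by
  rw [Nat.card_perm, Nat.card_fin, Nat.factorization_def _ Nat.prime_two]; decide +kernel

theorem syl (T : Sylow 2 (Equiv.Perm (Fin 8))) : Nonempty (W ≃* T) := by
  have i : Function.Injective (MulAction.toPermHom W (Fin 8)) := fun a b e =>
    act_inj a b fun i => congrArg (fun σ : Equiv.Perm (Fin 8) => σ i) e
  exact ⟨(MonoidHom.ofInjective i).trans (Sylow.equiv (Sylow.ofCard (MulAction.toPermHom W (Fin 8)).range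
    (((Nat.card_congr (MonoidHom.ofInjective i).toEquiv).symm.trans (Nat.card_fin 128)).trans fac)) T)⟩

def sub (p : W → Prop) (h : p 1 ∧ (∀ a, p a → p a⁻¹) ∧ ∀ a, p a → ∀ b, p b → p (a * b)) : Subgroup W :=
  ⟨⟨⟨{a | p a}, fun ha hb => h.2.2 _ ha _ hb⟩, h.1⟩, fun ha => h.2.1 _ ha⟩
def A : Subgroup W := sub (fun a => a.v < 16) (by decide +kernel)
def B : Subgroup W := sub (fun a => a.v < 64 ∧ a.v % 4 % 3 = 0 ∧ a.v / 4 % 4 % 3 = 0) (by decide +kernel)
def D : Subgroup W := sub (fun a => a.v < 64) (by decide +kernel)
def Y : Subgroup W := sub (fun a => a.v < 16 ∧ a.v % 4 % 3 = 0 ∧ a.v / 4 % 3 = 0) (by decide +kernel)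
instance instW128n10 (a : W) : Decidable (a ∈ A) := inferInstanceAs (Decidable (a.v < 16))
instance instW128n11 (a : W) : Decidable (a ∈ B) := inferInstanceAs (Decidable (a.v < 64 ∧ a.v % 4 % 3 = 0 ∧ a.v / 4 % 4 % 3 = 0))
instance instW128n12 (a : W) : Decidable (a ∈ D) := inferInstanceAs (Decidable (a.v < 64))
instance instW128n13 (a : W) : Decidable (a ∈ Y) := inferInstanceAs (Decidable (a.v < 16 ∧ a.v % 4 % 3 = 0 ∧ a.v / 4 % 3 = 0))
theorem cA : #A = 16 := (cardp (· ∈ A)).trans (by decide +kernel)
theorem cB : #B = 16 := (cardp (· ∈ B)).trans (by decide +kernel)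
theorem cD : #D = 64 := (cardp (· ∈ D)).trans (by decide +kernel)
theorem cY : #Y = 4 := (cardp (· ∈ Y)).trans (by decide +kernel)
def J (j : W) : Prop := j * j = k 15 ∧ ∃ g, g * j * g⁻¹ * j ≠ j * (g * j * g⁻¹)
instance instW128n14 (a : W) : Decidable (J a) := by unfold J; infer_instance
theorem cJ : Nat.card {w // J w} = 8 := (cardp J).trans (by decide +kernel)

theorem dZ : ∀ w : W, (∀ g, g * w = w * g) → w = 1 ∨ w = k 15 := by decide +kernel
theorem dz : (∀ g : W, g * k 15 = k 15 * g) ∧ k 15 ≠ 1 ∧ k 3 ≠ 1 ∧ k 3 ≠ k 15 ∧ k 12 = k 3 * k 15 ∧ k 64 * k 12 * (k 64)⁻¹ = k 3 ∧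
    k 16 ∈ B ∧ k 16 ∉ A ∧ k 15 ∈ A ∧ k 1 ∈ A ∧ k 4 ∈ A := by decide +kernel
theorem dE : ∀ v : W, v * v = 1 → (∀ g, g * v * g⁻¹ * v = v * (g * v * g⁻¹)) → v ∈ A ∨ v ∈ B := by decide +kernel
theorem dA : ∀ a ∈ A, a * a = 1 ∧ (∀ b ∈ A, a * b = b * a) ∧ ∀ g, g * a * g⁻¹ ∈ A := by decide +kernel
theorem d3 : ∀ g : W, g * k 3 = k 3 * g ∨ g * k 3 = k 3 * k 15 * g := by decide +kernel
theorem d3' : ∀ w : W, (∀ g, g * w = w * g ∨ g * w = w * k 15 * g) → w = 1 ∨ w = k 15 ∨ w = k 3 ∨ w = k 12 := by
  decide +kernel
theorem dJ : ∀ w : W, (∀ j, J j → w * j * w⁻¹ = j) → w = 1 ∨ w = k 15 := by decide +kernel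
theorem dQ : ∀ u ∈ A, ∀ v : W, u * v * (u * v) = k 3 → v * v = 1 → ∀ u' ∈ A, u' * v = v * u' → ∀ v', u' * v' * (u' * v') = k 12 →
    v' * v' = 1 → u * v' = v' * u → v * v' = v' * v →
    u⁻¹ * k 1 ∈ Y ∧ v⁻¹ * k 16 ∈ Y ∧ u'⁻¹ * k 4 ∈ Y ∧ v'⁻¹ * k 32 ∈ Y := by decide +kernel
theorem dR : k 1 * k 16 * (k 1 * k 16) = k 3 ∧ k 16 * k 16 = 1 ∧ k 4 * k 16 = k 16 * k 4 ∧ k 4 * k 32 * (k 4 * k 32) = k 12 ∧
    k 32 * k 32 = 1 ∧ k 1 * k 32 = k 32 * k 1 ∧ k 16 * k 32 = k 32 * k 16 ∧ k 1 ∈ D ∧ k 16 ∈ D ∧ k 4 ∈ D ∧ k 32 ∈ D := by
  decide +kernel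
theorem dG : ∀ d ∈ D, ∃ i j : Fin 4, ∃ m n : Fin 2, d = (k 1 * k 16) ^ i.1 * k 1 ^ m.1 * ((k 4 * k 32) ^ j.1 * k 4 ^ n.1) := by
  decide +kernel
theorem dY : ∀ c ∈ Y, c ∈ D ∧ c * c = 1 ∧ (c = 1 ∨ c = k 15 ∨ c = k 3 ∨ c = k 12) ∧ ∀ g, g * c * g⁻¹ ∈ Y := by decide +kernel
theorem dD : ∀ d ∈ D, ∀ e, e⁻¹ * d ∈ Y → e ∈ D ∧ d * e ∈ Y := by decide +kernel
theorem dC : ∀ p : W, p * k 1 * p⁻¹ = k 1 → p * k 16 * p⁻¹ = k 16 → p * k 4 * p⁻¹ = k 4 → p * k 32 * p⁻¹ = k 32 → p ∈ Y := by
  decide +kernel

end Cfsg.Agent.W128
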